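import Groth.Agent.Lib.BeilCpt9.DMod
import Groth.Prelude.Def_W4stkfunctorsequivp2Beil
import Mathlib.Algebra.Category.ModuleCat.Algebra
import Mathlib.RingTheory.MvPolynomial.Homogeneous
import Mathlib.LinearAlgebra.Dimension.Free
import Mathlib.LinearAlgebra.Basis.VectorSpace
import Mathlib.LinearAlgebra.FiniteDimensional.Basic
import Mathlib.RingTheory.Artinian.Module
import Mathlib.RingTheory.Finiteness.Basic
import Mathlib.RingTheory.Noetherian.Basic

/-!
Finite dimensional modules over the Beilinson algebra have finite support in the derived category.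
-/

set_option autoImplicit false
set_option linter.style.haveILetI false
set_option linter.unusedSectionVars false
set_option backward.isDefEq.respectTransparency false
set_option backward.isDefEq.respectTransparency.types false

universe w u

open CategoryTheory CategoryTheory.Limits MvPolynomial
open DerivedCategory (singleFunctor)
open scoped ModuleCat.Algebra

namespace Groth.Agent.BeilCpt9

theorem finSupp_single_of_map {R : Type u} [Ring R] [HasDerivedCategory.{w} (ModuleCat.{u} R)]
    {P : Type u} [AddCommGroup P] [Module R P] {M : ModuleCat.{u} R} (φ : P →ₗ[R] M) (d : ℤ)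
    (hP : FinSupp.{u} ((singleFunctor (ModuleCat.{u} R) d).obj (ModuleCat.of R P)))
    (hK : ∀ d', FinSupp.{u} ((singleFunctor (ModuleCat.{u} R) d').obj (ModuleCat.of R (LinearMap.ker φ))))
    (hC : FinSupp.{u} ((singleFunctor (ModuleCat.{u} R) d).obj (ModuleCat.of R (M ⧸ LinearMap.range φ)))) :
    FinSupp.{u} ((singleFunctor (ModuleCat.{u} R) d).obj M) := by
  let S₁ : ShortComplex (ModuleCat.{u} R) := ShortComplex.mk (X₁ := ModuleCat.of R (LinearMap.ker φ))
    (X₂ := ModuleCat.of R P) (X₃ := ModuleCat.of R (LinearMap.range φ))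
    (ModuleCat.ofHom (LinearMap.ker φ).subtype) (ModuleCat.ofHom φ.rangeRestrict)
    (ModuleCat.hom_ext (LinearMap.ext fun x => Subtype.ext x.2))
  have hS₁ : S₁.ShortExact :=
    { exact := by
        rw [ShortComplex.moduleCat_exact_iff]
        intro x hx
        exact ⟨(⟨x, congrArg Subtype.val hx⟩ : LinearMap.ker φ), rfl⟩
      mono_f := (ModuleCat.mono_iff_injective _).2 fun a b h => Subtype.ext h
      epi_g := (ModuleCat.epi_iff_surjective _).2 φ.surjective_rangeRestrict }
  let S₂ : ShortComplex (ModuleCat.{u} R) := ShortComplex.mk (X₁ := ModuleCat.of R (LinearMap.range φ))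
    (X₂ := M) (X₃ := ModuleCat.of R (M ⧸ LinearMap.range φ))
    (ModuleCat.ofHom (LinearMap.range φ).subtype) (ModuleCat.ofHom (LinearMap.range φ).mkQ)
    (ModuleCat.hom_ext (LinearMap.ext fun x => (Submodule.Quotient.mk_eq_zero _).2 x.2))
  have hS₂ : S₂.ShortExact :=
    { exact := by
        rw [ShortComplex.moduleCat_exact_iff]
        intro x hx
        exact ⟨(⟨x, (Submodule.Quotient.mk_eq_zero _).1 hx⟩ : LinearMap.range φ), rfl⟩
      mono_f := (ModuleCat.mono_iff_injective _).2 fun a b h => Subtype.ext h
      epi_g := (ModuleCat.epi_iff_surjective _).2 (Submodule.mkQ_surjective _) }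
  exact finSupp_single₂ hS₂ d (finSupp_single₃ hS₁ d hP hK) hC

variable (k : Type u) [Field k] (n : ℕ)

instance finite_beilinson : Module.Finite k (DEquiv.beilinsonAlg k n) := by
  haveI : ∀ d, Module.Finite k (homogeneousSubmodule (Fin (n + 1)) k d) := fun d =>
    Module.Finite.iff_fg.2 (homogeneousSubmodule_fg (Fin (n + 1)) k d)
  let f : (DEquiv.beilinsonAlg k n) →ₗ[k] Π i : Fin (n + 1), Π j : Fin (n + 1), homogeneousSubmodule (Fin (n + 1)) k ((j : ℕ) - i) :=
    { toFun := fun r i j => ⟨r.1 i j, (r.2 i j).2⟩
      map_add' := fun r s => rfl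
      map_smul' := fun c r => rfl }
  exact Module.Finite.of_injective f fun r s h => Subtype.ext (Matrix.ext fun i j =>
    congrArg Subtype.val (congrFun (congrFun h i) j))

theorem finite_moduleCat {k : Type u} [Field k] {R : Type u} [Ring R] [Algebra k R] (X : Type u) [AddCommGroup X]
    [Module k X] [Module R X] [IsScalarTower k R X] [Module.Finite k X] (M : ModuleCat.{u} R) (e : X ≃ₗ[R] M) :
    Module.Finite k M :=
  Module.Finite.of_surjective
    ({ toFun := fun x => e x
       map_add' := fun x y => map_add e x y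
       map_smul' := fun c x => by
         rw [RingHom.id_apply, algebra_compatible_smul R c x, map_smul, algebraMap_smul] } : X →ₗ[k] M) e.surjective

variable {k n}

/-- The diagonal idempotents. -/
noncomputable def eI (m : Fin (n + 1)) : (DEquiv.beilinsonAlg k n) :=
  ⟨Matrix.diagonal (fun l => if l = m then 1 else 0), fun i j =>
    ⟨fun h => Matrix.diagonal_apply_ne _ (fun e => by subst e; exact lt_irrefl _ h), by
      by_cases e : i = j
      · subst e
        rw [Matrix.diagonal_apply_eq, Nat.sub_self]
        split_ifs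
        · exact isHomogeneous_one _ _
        · exact isHomogeneous_zero _ _ _
      · rw [Matrix.diagonal_apply_ne _ e]
        exact isHomogeneous_zero _ _ _⟩⟩

theorem eI_mul_self (m : Fin (n + 1)) : eI (k := k) m * eI m = eI m := Subtype.ext (by
  show (Matrix.diagonal fun l : Fin (n + 1) => if l = m then (1 : MvPolynomial (Fin (n + 1)) k) else 0) * (Matrix.diagonal fun l : Fin (n + 1) => if l = m then (1 : MvPolynomial (Fin (n + 1)) k) else 0) = (Matrix.diagonal fun l : Fin (n + 1) => if l = m then (1 : MvPolynomial (Fin (n + 1)) k) else 0)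
  rw [Matrix.diagonal_mul_diagonal]
  exact congrArg Matrix.diagonal (funext fun l => by split_ifs <;> simp))

theorem sum_eI : ∑ m : Fin (n + 1), eI (k := k) m = 1 := Subtype.ext (Matrix.ext fun i j => by
  rw [AddSubmonoidClass.coe_finsetSum, Matrix.sum_apply]
  show ∑ m, Matrix.diagonal _ i j = (1 : Matrix _ _ _) i j
  by_cases e : i = j
  · subst e
    simp [Matrix.diagonal_apply_eq]
  · simp [Matrix.diagonal_apply_ne _ e, Matrix.one_apply_ne e])

theorem eI_mul_mul_eI_apply (j m : Fin (n + 1)) (r : (DEquiv.beilinsonAlg k n)) (a b : Fin (n + 1)) :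
    ((eI j * r * eI m : (DEquiv.beilinsonAlg k n)) : Matrix (Fin (n + 1)) (Fin (n + 1)) (MvPolynomial (Fin (n + 1)) k)) a b =
      if a = j ∧ b = m then r.1 j m else 0 := by
  show ((Matrix.diagonal fun l : Fin (n + 1) => if l = j then (1 : MvPolynomial (Fin (n + 1)) k) else 0) * r.1 * (Matrix.diagonal fun l : Fin (n + 1) => if l = m then (1 : MvPolynomial (Fin (n + 1)) k) else 0)) a b = _
  rw [Matrix.mul_diagonal, Matrix.diagonal_mul]
  by_cases ha : a = j <;> by_cases hb : b = m <;> simp [ha, hb]

theorem eI_mul_mul_eI_of_lt {j m : Fin (n + 1)} (h : (m : ℕ) < j) (r : (DEquiv.beilinsonAlg k n)) : eI j * r * eI m = 0 :=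
  Subtype.ext (Matrix.ext fun a b => by
    rw [eI_mul_mul_eI_apply, (r.2 j m).1 h]
    simp)

theorem eI_mul_mul_eI_self (m : Fin (n + 1)) (r : (DEquiv.beilinsonAlg k n)) : ∃ c : k, eI m * r * eI m = c • eI m := by
  refine ⟨MvPolynomial.coeff 0 (r.1 m m), Subtype.ext (Matrix.ext fun a b => ?_)⟩
  rw [eI_mul_mul_eI_apply]
  show _ = (MvPolynomial.coeff 0 (r.1 m m)) • (Matrix.diagonal fun l : Fin (n + 1) => if l = m then (1 : MvPolynomial (Fin (n + 1)) k) else 0) a b
  have h0 : r.1 m m = C (MvPolynomial.coeff 0 (r.1 m m)) := by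
    have hd := (r.2 m m).2
    rw [Nat.sub_self] at hd
    exact totalDegree_eq_zero_iff_eq_C.1 ((totalDegree_zero_iff_isHomogeneous _).2 hd)
  by_cases ha : a = m <;> by_cases hb : b = m
  · subst ha hb
    rw [if_pos ⟨rfl, rfl⟩, Matrix.diagonal_apply_eq, if_pos rfl, smul_eq_C_mul, mul_one]
    exact h0
  · subst ha
    rw [if_neg (fun h => hb h.2), Matrix.diagonal_apply_ne _ (Ne.symm hb), smul_zero]
  · subst hb
    rw [if_neg (fun h => ha h.1), Matrix.diagonal_apply_ne _ ha, smul_zero]
  · rw [if_neg (fun h => ha h.1)]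
    by_cases e : a = b
    · subst e
      rw [Matrix.diagonal_apply_eq, if_neg ha, smul_zero]
    · rw [Matrix.diagonal_apply_ne _ e, smul_zero]

theorem finSupp_single_of_killed {R : Type u} [Ring R] [Algebra k R] [Module.Finite k R]
    [HasDerivedCategory.{w} (ModuleCat.{u} R)] (ε : Fin (n + 1) → R) (hsum : ∑ m, ε m = 1)
    (hid : ∀ m, ε m * ε m = ε m) (hlt : ∀ j m : Fin (n + 1), (m : ℕ) < j → ∀ r, ε j * r * ε m = 0)
    (hself : ∀ m r, ∃ c : k, ε m * r * ε m = c • ε m) : ∀ (m : ℕ) (M : ModuleCat.{u} R), Module.Finite k M →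
    (∀ j : Fin (n + 1), m ≤ (j : ℕ) → ∀ x : M, ε j • x = 0) →
    ∀ d : ℤ, FinSupp.{u} ((singleFunctor (ModuleCat.{u} R) d).obj M) := by
  intro m
  induction m with
  | zero =>
    intro M _ hM d
    refine finSupp_of_isZero ((singleFunctor _ d).map_isZero ?_)
    have : Subsingleton M := subsingleton_of_forall_eq 0 fun x => by
      rw [← one_smul R x, ← hsum, Finset.sum_smul]
      exact Finset.sum_eq_zero fun j _ => hM j (Nat.zero_le _) x
    exact ModuleCat.isZero_of_subsingleton _
  | succ m ih =>
    intro M hfin hM d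
    by_cases hmn : n + 1 ≤ m
    · exact ih M hfin (fun j hj => absurd j.2 (by omega)) d
    let mm : Fin (n + 1) := ⟨m, by omega⟩
    let e : R := ε mm
    let V : Submodule k M := LinearMap.range ((DistribSMul.toLinearMap k M e) : M →ₗ[k] M)
    have : Module.Finite k V := inferInstanceAs (Module.Finite k (LinearMap.range _))
    let b := Module.finBasis k V
    let r := Module.finrank k V
    have hev : ∀ v : V, e • (v : M) = v := by
      rintro ⟨_, x, rfl⟩
      show e • e • x = e • x
      rw [smul_smul, hid]
    let π : (Fin r → R) →ₗ[R] M :=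
      { toFun := fun v => ∑ i, (v i * e) • ((b i : V) : M)
        map_add' := fun v w => by simp only [Pi.add_apply, add_mul, add_smul, Finset.sum_add_distrib]
        map_smul' := fun c v => by
          simp only [Pi.smul_apply, smul_eq_mul, RingHom.id_apply, Finset.smul_sum, smul_smul, mul_assoc] }
    let E : (Fin r → R) →ₗ[R] (Fin r → R) :=
      LinearMap.pi fun i => (LinearMap.toSpanSingleton R R e).comp (LinearMap.proj i)
    have hE : ∀ v i, E v i = v i * e := fun v i => rfl
    let P : Submodule R (Fin r → R) := LinearMap.range E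
    have hP : ∀ d', FinSupp.{u} ((singleFunctor (ModuleCat.{u} R) d').obj (ModuleCat.of R P)) := fun d' =>
      finSupp_of_retract
        ((Retract.mk (X := ModuleCat.of R P) (Y := ModuleCat.of R (Fin r → R)) (ModuleCat.ofHom P.subtype)
          (ModuleCat.ofHom E.rangeRestrict) (ModuleCat.hom_ext (LinearMap.ext fun ⟨_, v, hv⟩ => by
            subst hv
            refine Subtype.ext (funext fun i => ?_)
            show E (E v) i = E v i
            rw [hE, hE, mul_assoc, hid]))).map (singleFunctor _ d'))
        (finSupp_single_pi r d')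
    let φ : P →ₗ[R] M := π.comp P.subtype
    have : Module.Finite k (Fin r → R) := inferInstance
    have hPf : Module.Finite k P := Module.Finite.of_injective (P.subtype.restrictScalars k) Subtype.val_injective
    have hN := isNoetherian_of_isNoetherianRing_of_finite k P
    have : Module.Finite k (LinearMap.range φ) :=
      Module.Finite.of_injective ((LinearMap.range φ).subtype.restrictScalars k) Subtype.val_injective
    have hker : Module.Finite k (LinearMap.ker φ) :=
      Module.Finite.of_injective ((LinearMap.ker φ).subtype.restrictScalars k) Subtype.val_injective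
    have : Module.Finite k (M ⧸ LinearMap.range φ) :=
      Module.Finite.of_surjective ((LinearMap.range φ).mkQ.restrictScalars k) (Submodule.mkQ_surjective _)
    have hK : ∀ j : Fin (n + 1), m ≤ (j : ℕ) → ∀ x : LinearMap.ker φ, ε j • x = 0 := by
      rintro j hj ⟨⟨_, v, rfl⟩, hx⟩
      refine Subtype.ext (Subtype.ext (funext fun i => ?_))
      show ε j * (E v i) = 0
      rw [hE, ← mul_assoc]
      rcases Nat.lt_or_ge m (j : ℕ) with h | h
      · exact hlt j mm h (v i)
      · obtain rfl : j = mm := Fin.ext (le_antisymm h hj)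
        choose c hc using fun i => hself mm (v i)
        have h0 : ∑ i, c i • b i = 0 := Subtype.ext (by
          rw [AddSubmonoidClass.coe_finsetSum]
          have h1 : e • π (E v) = 0 := by
            rw [show π (E v) = 0 from hx, smul_zero]
          refine Eq.trans (Finset.sum_congr rfl fun i _ => ?_) (Eq.trans (Finset.smul_sum).symm h1)
          show c i • ((b i : V) : M) = e • ((E v i * e) • ((b i : V) : M))
          rw [hE, mul_assoc, hid, smul_smul, ← mul_assoc, hc, smul_assoc, hev])
        rw [hc i, Fintype.linearIndependent_iff.1 b.linearIndependent c h0 i, zero_smul]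
    have hC : ∀ j : Fin (n + 1), m ≤ (j : ℕ) → ∀ x : M ⧸ LinearMap.range φ, ε j • x = 0 := by
      intro j hj x
      obtain ⟨x, rfl⟩ := Submodule.Quotient.mk_surjective _ x
      rw [← Submodule.Quotient.mk_smul, Submodule.Quotient.mk_eq_zero]
      rcases Nat.lt_or_ge m (j : ℕ) with h | h
      · rw [hM j h x]
        exact zero_mem _
      · obtain rfl : j = mm := Fin.ext (le_antisymm h hj)
        let v : V := ⟨e • x, x, rfl⟩
        let w : Fin r → R := fun i => algebraMap k R (b.repr v i)
        refine ⟨⟨E w, w, rfl⟩, ?_⟩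
        show π (E w) = e • x
        show ∑ i, (E w i * e) • ((b i : V) : M) = e • x
        simp only [hE, mul_assoc, hid, e]
        have h2 : ((∑ i, b.repr v i • b i : V) : M) = e • x := congrArg Subtype.val (b.sum_repr v)
        rw [AddSubmonoidClass.coe_finsetSum] at h2
        refine Eq.trans (Finset.sum_congr rfl fun i _ => ?_) h2
        show (algebraMap k R (b.repr v i) * ε mm) • ((b i : V) : M) = b.repr v i • ((b i : V) : M)
        rw [← Algebra.smul_def, smul_assoc, hev]
    have hK' : ∀ d', FinSupp.{u} ((singleFunctor (ModuleCat.{u} R) d').obj (ModuleCat.of R (LinearMap.ker φ))) :=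
      ih (ModuleCat.of R (LinearMap.ker φ)) (finite_moduleCat (LinearMap.ker φ) _ (LinearEquiv.refl R _)) hK
    have hC' : ∀ d', FinSupp.{u} ((singleFunctor (ModuleCat.{u} R) d').obj (ModuleCat.of R (M ⧸ LinearMap.range φ))) :=
      ih (ModuleCat.of R (M ⧸ LinearMap.range φ)) (finite_moduleCat (M ⧸ LinearMap.range φ) _ (LinearEquiv.refl R _)) hC
    exact finSupp_single_of_map φ d (hP d) hK' (hC' d)

theorem finSupp_single [HasDerivedCategory.{w} (ModuleCat.{u} (DEquiv.beilinsonAlg k n))]
    (M : ModuleCat.{u} (DEquiv.beilinsonAlg k n)) (h : Module.Finite k M) (d : ℤ) :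
    FinSupp.{u} ((singleFunctor (ModuleCat.{u} (DEquiv.beilinsonAlg k n)) d).obj M) :=
  finSupp_single_of_killed (n := n) (fun j => eI j) sum_eI eI_mul_self (fun _ _ h r => eI_mul_mul_eI_of_lt h r)
    eI_mul_mul_eI_self (n + 1) M h (fun j hj => absurd j.2 (by omega)) d

end Groth.Agent.BeilCpt9
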