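import Groth.Agent.Lib.BeilCpt9.FinSupp
import Groth.Agent.Lib.AcyclicSum8.Main
import Groth.Agent.Lib.DerTrunc.Basic
import Mathlib.Algebra.Homology.DerivedCategory.KProjective
import Mathlib.Algebra.Homology.DerivedCategory.SingleTriangle
import Mathlib.Algebra.Homology.DerivedCategory.TStructure
import Mathlib.Algebra.Category.ModuleCat.AB
import Mathlib.Algebra.Category.ModuleCat.Projective
import Mathlib.Algebra.Category.ModuleCat.Colimits
import Mathlib.Algebra.Homology.ShortComplex.ModuleCat

/-!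
Maps with finite support out of objects of the derived category of modules.
-/

set_option autoImplicit false
set_option linter.style.haveILetI false
set_option backward.isDefEq.respectTransparency false
set_option backward.isDefEq.respectTransparency.types false

universe w v u

open CategoryTheory CategoryTheory.Limits CategoryTheory.Pretriangulated
open DerivedCategory (Q Qh quotientCompQhIso singleFunctor homologyFunctor)
open DerivedCategory.TStructure

namespace Groth.Agent.BeilCpt9

section Proj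

variable {A : Type u} [Category.{v} A] [Abelian A] [HasDerivedCategory.{w} A]

theorem exists_map_eq_of_isKProjective {P L : CochainComplex A ℤ} [P.IsKProjective] (φ : Q.obj P ⟶ Q.obj L) :
    ∃ ψ : P ⟶ L, Q.map ψ = φ := by
  obtain ⟨g, hg⟩ := (CochainComplex.IsKProjective.Qh_map_bijective P
    ((HomotopyCategory.quotient A (ComplexShape.up ℤ)).obj L)).2
      ((quotientCompQhIso A).hom.app P ≫ φ ≫ (quotientCompQhIso A).inv.app L)
  obtain ⟨ψ, rfl⟩ := (HomotopyCategory.quotient A (ComplexShape.up ℤ)).map_surjective g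
  refine ⟨ψ, ?_⟩
  rw [← cancel_epi ((quotientCompQhIso A).hom.app P)]
  have h1 := (quotientCompQhIso A).hom.naturality ψ
  dsimp at h1
  rw [← h1, hg, Category.assoc, Category.assoc, Iso.inv_hom_id_app]
  simp

theorem finSupp_single_of_forall {P : ObjectProperty A}
    (hP : ∀ (M : A), P M → ∀ n : ℤ, FinSupp.{v} ((singleFunctor A n).obj M))
    (K : DerivedCategory A) (a b : ℤ) [K.IsGE a] [K.IsLE b] [P.IsClosedUnderIsomorphisms]
    (hK : ∀ i : ℤ, P ((homologyFunctor A i).obj K)) : FinSupp.{v} K := by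
  suffices H : ∀ (d : ℕ) (b : ℤ) (X : DerivedCategory A), b < a + d → X.IsGE a → X.IsLE b →
      (∀ i, a ≤ i → i ≤ b → P ((homologyFunctor A i).obj X)) → FinSupp.{v} X from
    H (b + 1 - a).toNat b K (by omega) ‹_› ‹_› fun i _ _ => hK i
  intro d
  induction d with
  | zero =>
    intro b X hb hge hle _
    refine finSupp_of_isZero ?_
    rw [IsZero.iff_id_eq_zero]
    exact t.zero (𝟙 X) b a (by omega)
  | succ d ih =>
    intro b X hb hge hle hX
    by_cases hab : b < a
    · refine finSupp_of_isZero ?_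
      rw [IsZero.iff_id_eq_zero]
      exact t.zero (𝟙 X) b a hab
    have h1 : ((t.truncLT b).obj X).IsGE a := (inferInstanceAs (t.IsGE ((t.truncLT b).obj X) a))
    have h2 : ((t.truncLT b).obj X).IsLE (b - 1) := (inferInstanceAs (t.IsLE ((t.truncLT b).obj X) (b - 1)))
    haveI h3 : ((t.truncGE b).obj X).IsGE b := (inferInstanceAs (t.IsGE ((t.truncGE b).obj X) b))
    haveI h4 : ((t.truncGE b).obj X).IsLE b := (inferInstanceAs (t.IsLE ((t.truncGE b).obj X) b))
    refine finSupp_obj₂ ((t.triangleLTGE b).obj X) (t.triangleLTGE_distinguished b X)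
      (ih (b - 1) _ (by omega) h1 h2 fun i hi hi' => ?_) ?_
    · haveI := Groth.Agent.DerTrunc.isIso_homology_truncLTι X b i (by omega)
      exact P.prop_of_iso (asIso ((homologyFunctor A i).map ((t.truncLTι b).app X))).symm (hX i hi (by omega))
    · show FinSupp.{v} ((t.truncGE b).obj X)
      obtain ⟨Y, ⟨e⟩⟩ := DerivedCategory.exists_iso_singleFunctor_obj_of_isGE_of_isLE ((t.truncGE b).obj X) b
      refine finSupp_of_iso e (hP Y ?_ b)
      haveI := Groth.Agent.DerTrunc.isIso_homology_truncGEπ X b b le_rfl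
      exact P.prop_of_iso (asIso ((homologyFunctor A b).map ((t.truncGEπ b).app X)) ≪≫
        (homologyFunctor A b).mapIso e ≪≫ (DerivedCategory.singleFunctorCompHomologyFunctorIso A b).app Y)
        (hX b (by omega) le_rfl)

/-- Two out of three for modules placed in a degree. -/
theorem finSupp_single₂ {S : ShortComplex A} (hS : S.ShortExact) (n : ℤ)
    (h₁ : FinSupp.{v} ((singleFunctor A n).obj S.X₁)) (h₃ : FinSupp.{v} ((singleFunctor A n).obj S.X₃)) :
    FinSupp.{v} ((singleFunctor A n).obj S.X₂) :=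
  finSupp_obj₂ (Triangle.mk _ _ _)
    (DerivedCategory.triangleOfSES_distinguished
      (hS.map_of_exact (HomologicalComplex.single A (ComplexShape.up ℤ) n))) h₁ h₃

theorem finSupp_single₃ {S : ShortComplex A} (hS : S.ShortExact) (n : ℤ)
    (h₂ : FinSupp.{v} ((singleFunctor A n).obj S.X₂))
    (h₁ : ∀ m : ℤ, FinSupp.{v} ((singleFunctor A m).obj S.X₁)) :
    FinSupp.{v} ((singleFunctor A n).obj S.X₃) :=
  finSupp_obj₃ (Triangle.mk _ _ _)
    (DerivedCategory.triangleOfSES_distinguished
      (hS.map_of_exact (HomologicalComplex.single A (ComplexShape.up ℤ) n))) h₂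
    (finSupp_of_iso (((DerivedCategory.singleFunctors A).shiftIso (1 : ℤ) (n - 1) n (by omega)).app S.X₁)
      (h₁ (n - 1)))

end Proj

variable {R : Type u} [Ring R] [HasDerivedCategory.{w} (ModuleCat.{u} R)]

theorem finSupp_single_self (n : ℤ) :
    FinSupp.{u} ((singleFunctor (ModuleCat.{u} R) n).obj (ModuleCat.of R R)) := by
  classical
  intro J X c hc φ
  let P : CochainComplex (ModuleCat.{u} R) ℤ := (HomologicalComplex.single (ModuleCat.{u} R) (ComplexShape.up ℤ) n).obj (ModuleCat.of R R)
  haveI : ∀ i, Projective (P.X i) := fun i => by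
    by_cases h : i = n
    · subst h
      haveI : Projective (ModuleCat.of R R) := (IsProjective.iff_projective (ModuleCat.of R R)).1 inferInstance
      exact Projective.of_iso (HomologicalComplex.singleObjXSelf (ComplexShape.up ℤ) i _).symm inferInstance
    · exact (HomologicalComplex.isZero_single_obj_X (ComplexShape.up ℤ) n _ i h).projective
  haveI : P.IsStrictlyLE n := by
    rw [CochainComplex.isStrictlyLE_iff]
    exact fun i hi => HomologicalComplex.isZero_single_obj_X (ComplexShape.up ℤ) n _ i (by omega)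
  haveI := CochainComplex.isKProjective_of_projective P n
  change Q.obj P ⟶ c.pt at φ
  let L : J → CochainComplex (ModuleCat.{u} R) ℤ := fun j => Q.objPreimage (X j)
  let e : ∀ j, Q.obj (L j) ≅ X j := fun j => Q.objObjPreimageIso (X j)
  obtain ⟨hc'⟩ := AcyclicSum8.isColimit_Q (Cofan.mk (∐ L) (Sigma.ι L)) (coproductIsCoproduct L)
  let c' : Cofan fun j => Q.obj (L j) :=
    Cofan.mk (Q.obj (∐ L)) fun j => (Q : _ ⥤ DerivedCategory (ModuleCat.{u} R)).map (Sigma.ι L j)
  let θ : Q.obj (∐ L) ⟶ c.pt := Cofan.IsColimit.desc (c := c') hc' fun j => (e j).hom ≫ c.inj j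
  let θ' : c.pt ⟶ Q.obj (∐ L) := Cofan.IsColimit.desc hc fun j => (e j).inv ≫ c'.inj j
  have hθ : θ' ≫ θ = 𝟙 _ := Cofan.IsColimit.hom_ext hc _ _ fun j => by
    rw [← Category.assoc, Cofan.IsColimit.fac, Category.assoc]
    show (e j).inv ≫ c'.inj j ≫ θ = _
    rw [show c'.inj j ≫ θ = (e j).hom ≫ c.inj j from Cofan.IsColimit.fac (c := c') hc' _ j]
    simp
  obtain ⟨ψ, hψ⟩ := exists_map_eq_of_isKProjective (φ ≫ θ')
  let E := HomologicalComplex.eval (ModuleCat.{u} R) (ComplexShape.up ℤ) n
  let x : (∐ L).X n := ((HomologicalComplex.singleObjXSelf (ComplexShape.up ℤ) n _).inv ≫ ψ.f n).hom (1 : R)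
  let q : Finset J → (∐ L ⟶ ∐ L) := fun s => killOn (coproductIsCoproduct L) s
  have hq : ∀ {s u : Finset J}, s ⊆ u → q s ≫ q u = q u := fun {s u} h =>
    killOn_comp _ s _ fun i hi => inj_killOn_mem _ u (h hi)
  let H : Submodule R ((∐ L).X n) :=
    { carrier := {y | ∃ s : Finset J, ((q s).f n).hom y = 0}
      zero_mem' := ⟨∅, map_zero _⟩
      add_mem' := fun {a b} ⟨s, hs⟩ ⟨u, hu⟩ => ⟨s ∪ u, by
        have ha := congrArg (fun z => z.f n) (hq (Finset.subset_union_left (s₁ := s) (s₂ := u)))
        have hb := congrArg (fun z => z.f n) (hq (Finset.subset_union_right (s₁ := s) (s₂ := u)))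
        dsimp at ha hb ⊢
        rw [map_add, ← congrArg (fun z => z.hom a) ha, ← congrArg (fun z => z.hom b) hb]
        simp [hs, hu]⟩
      smul_mem' := fun r a ⟨s, hs⟩ => ⟨s, by rw [map_smul, hs, smul_zero]⟩ }
  have hH : ModuleCat.ofHom H.mkQ = (0 : E.obj (∐ L) ⟶ ModuleCat.of R ((∐ L).X n ⧸ H)) :=
    (isColimitOfPreserves E (coproductIsCoproduct L)).hom_ext fun ⟨j⟩ => by
      ext (y : (L j).X n)
      refine (Submodule.Quotient.mk_eq_zero H).2 ⟨{j}, ?_⟩
      have h := congrArg (fun z => z.f n) (inj_killOn_mem (coproductIsCoproduct L) {j} (Finset.mem_singleton_self j))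
      exact congrArg (fun z => z.hom y) h
  obtain ⟨s, hs⟩ : x ∈ H := (Submodule.Quotient.mk_eq_zero H).1 (congrArg (fun z => z.hom x) hH)
  have hψs : ψ ≫ q s = 0 := by
    refine HomologicalComplex.from_single_hom_ext ?_
    rw [← cancel_epi (HomologicalComplex.singleObjXSelf (ComplexShape.up ℤ) n (ModuleCat.of R R)).inv]
    refine ModuleCat.hom_ext (LinearMap.ext_ring ?_)
    simpa [x] using hs
  refine ⟨s, fun Z g hg => ?_⟩
  have h1 : Q.map (q s) ≫ θ ≫ g = θ ≫ g := by
    refine Cofan.IsColimit.hom_ext (c := c') hc' _ _ fun j => ?_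
    have e1 : c'.inj j ≫ θ ≫ g = (e j).hom ≫ c.inj j ≫ g := by
      rw [← Category.assoc, show c'.inj j ≫ θ = (e j).hom ≫ c.inj j from Cofan.IsColimit.fac (c := c') hc' _ j,
        Category.assoc]
    rw [e1]
    show (Q : _ ⥤ DerivedCategory (ModuleCat.{u} R)).map (Sigma.ι L j) ≫ Q.map (q s) ≫ θ ≫ g = _
    rw [← Category.assoc, ← Q.map_comp]
    by_cases hj : j ∈ s
    · rw [hg j hj, comp_zero]
      have h0 : Sigma.ι L j ≫ q s = 0 := inj_killOn_mem (coproductIsCoproduct L) s hj
      rw [h0, Functor.map_zero, zero_comp]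
    · have h0 : Sigma.ι L j ≫ q s = Sigma.ι L j := inj_killOn_not_mem (coproductIsCoproduct L) s hj
      rw [h0]
      exact e1
  calc φ ≫ g = (φ ≫ θ' ≫ θ) ≫ g := by rw [hθ, Category.comp_id]
    _ = (φ ≫ θ') ≫ θ ≫ g := by simp
    _ = Q.map ψ ≫ Q.map (q s) ≫ θ ≫ g := by rw [h1, hψ]
    _ = 0 := by rw [← Category.assoc, ← Q.map_comp, hψs, Functor.map_zero, zero_comp]

/-- Finite free modules. -/
theorem finSupp_single_pi (r : ℕ) (n : ℤ) :
    FinSupp.{u} ((singleFunctor (ModuleCat.{u} R) n).obj (ModuleCat.of R (Fin r → R))) := by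
  induction r with
  | zero =>
    refine finSupp_of_isZero ((singleFunctor _ n).map_isZero ?_)
    haveI : Subsingleton (ModuleCat.of R (Fin 0 → R)) := inferInstanceAs (Subsingleton (Fin 0 → R))
    exact ModuleCat.isZero_of_subsingleton _
  | succ r ih =>
    let f : ModuleCat.of R (Fin r → R) ⟶ ModuleCat.of R (Fin (r + 1) → R) :=
      ModuleCat.ofHom (LinearMap.pi fun i => Fin.cases 0 (fun j => LinearMap.proj j) i)
    let g : ModuleCat.of R (Fin (r + 1) → R) ⟶ ModuleCat.of R R := ModuleCat.ofHom (LinearMap.proj 0)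
    let S : ShortComplex (ModuleCat.{u} R) := ShortComplex.mk f g (ModuleCat.hom_ext (LinearMap.ext fun v => rfl))
    have hS : S.ShortExact :=
      { exact := by
          rw [ShortComplex.moduleCat_exact_iff]
          intro (v : Fin (r + 1) → R) (hv : v 0 = 0)
          exact ⟨fun j => v j.succ, funext fun i => Fin.cases hv.symm (fun j => rfl) i⟩
        mono_f := (ModuleCat.mono_iff_injective _).2 fun a b h => funext fun j => congrFun h j.succ
        epi_g := (ModuleCat.epi_iff_surjective _).2 fun c => ⟨fun _ => c, rfl⟩ }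
    exact finSupp_single₂ hS n ih (finSupp_single_self n)

end Groth.Agent.BeilCpt9
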