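import Mathlib.CategoryTheory.Triangulated.Pretriangulated
import Mathlib.CategoryTheory.Preadditive.Yoneda.Basic
import Mathlib.CategoryTheory.Limits.Preserves.Basic
import Mathlib.CategoryTheory.Limits.Shapes.Products
import Mathlib.CategoryTheory.Retract
import Mathlib.Algebra.Category.Grp.Preadditive
import Mathlib.Algebra.BigOperators.Finprod
import Mathlib.GroupTheory.QuotientGroup.Defs

/-!
Objects whose maps into sums have finite support.
-/

set_option autoImplicit false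
set_option backward.isDefEq.respectTransparency false

universe t v u

open CategoryTheory CategoryTheory.Limits CategoryTheory.Pretriangulated Opposite

namespace Groth.Agent.BeilCpt9

variable {C : Type u} [Category.{v} C] [Preadditive C]

/-- Every map from `K` into a sum indexed by a type in `Type t` is killed by whatever kills finitely
many of the summands. -/
def FinSupp (K : C) : Prop :=
  ∀ (J : Type t) (X : J → C) (c : Cofan X), IsColimit c → ∀ φ : K ⟶ c.pt,
    ∃ s : Finset J, ∀ (Z : C) (g : c.pt ⟶ Z), (∀ i ∈ s, c.inj i ≫ g = 0) → φ ≫ g = 0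

theorem finSupp_of_retract {A B : C} (r : Retract A B) (h : FinSupp.{t} B) : FinSupp.{t} A := by
  intro J X c hc φ
  obtain ⟨s, hs⟩ := h J X c hc (r.r ≫ φ)
  refine ⟨s, fun Z g hg => ?_⟩
  have h1 := hs Z g hg
  rw [Category.assoc] at h1
  calc φ ≫ g = (r.i ≫ r.r) ≫ φ ≫ g := by rw [r.retract, Category.id_comp]
    _ = r.i ≫ r.r ≫ φ ≫ g := Category.assoc _ _ _
    _ = 0 := by rw [h1, comp_zero]

theorem finSupp_of_iso {A B : C} (e : A ≅ B) (h : FinSupp.{t} B) : FinSupp.{t} A :=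
  finSupp_of_retract ⟨e.hom, e.inv, e.hom_inv_id⟩ h

theorem finSupp_of_isZero {A : C} (h : IsZero A) : FinSupp.{t} A :=
  fun _ _ _ _ _ => ⟨∅, fun _ _ _ => h.eq_of_src _ _⟩

open Classical in
/-- The endomorphism of a sum killing the summands in `s`. -/
noncomputable def killOn {J : Type t} {X : J → C} {c : Cofan X} (hc : IsColimit c) (s : Finset J) :
    c.pt ⟶ c.pt :=
  Cofan.IsColimit.desc hc fun i => if i ∈ s then 0 else c.inj i

theorem inj_killOn_mem {J : Type t} {X : J → C} {c : Cofan X} (hc : IsColimit c) (s : Finset J) {i : J}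
    (hi : i ∈ s) : c.inj i ≫ killOn hc s = 0 := by
  rw [killOn, Cofan.IsColimit.fac, if_pos hi]

theorem inj_killOn_not_mem {J : Type t} {X : J → C} {c : Cofan X} (hc : IsColimit c) (s : Finset J) {i : J}
    (hi : i ∉ s) : c.inj i ≫ killOn hc s = c.inj i := by
  rw [killOn, Cofan.IsColimit.fac, if_neg hi]

theorem killOn_comp {J : Type t} {X : J → C} {c : Cofan X} (hc : IsColimit c) (s : Finset J)
    {Z : C} (g : c.pt ⟶ Z) (hg : ∀ i ∈ s, c.inj i ≫ g = 0) : killOn hc s ≫ g = g := by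
  refine Cofan.IsColimit.hom_ext hc _ _ fun i => ?_
  by_cases hi : i ∈ s
  · rw [← Category.assoc, inj_killOn_mem hc s hi, zero_comp, hg i hi]
  · rw [← Category.assoc, inj_killOn_not_mem hc s hi]

section Triangle

variable [HasZeroObject C] [HasShift C ℤ] [∀ n : ℤ, (shiftFunctor C n).Additive] [Pretriangulated C]

theorem finSupp_obj₂ (T : Triangle C) (hT : T ∈ distTriang C) (h₁ : FinSupp.{t} T.obj₁)
    (h₃ : FinSupp.{t} T.obj₃) : FinSupp.{t} T.obj₂ := by
  classical
  intro J X c hc φ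
  obtain ⟨s, hs⟩ := h₁ J X c hc (T.mor₁ ≫ φ)
  have h0 : T.mor₁ ≫ φ ≫ killOn hc s = 0 := by
    rw [← Category.assoc]
    exact hs _ _ fun i hi => inj_killOn_mem hc s hi
  obtain ⟨χ, hχ⟩ := Triangle.yoneda_exact₂ T hT (φ ≫ killOn hc s) h0
  obtain ⟨u, hu⟩ := h₃ J X c hc χ
  refine ⟨s ∪ u, fun Z g hg => ?_⟩
  have h2 : χ ≫ g = 0 := hu Z g fun i hi => hg i (Finset.mem_union_right _ hi)
  calc φ ≫ g = (φ ≫ killOn hc s) ≫ g := by
        rw [Category.assoc, killOn_comp hc s g fun i hi => hg i (Finset.mem_union_left _ hi)]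
    _ = 0 := by rw [hχ, Category.assoc, h2, comp_zero]

theorem finSupp_obj₃ (T : Triangle C) (hT : T ∈ distTriang C) (h₂ : FinSupp.{t} T.obj₂)
    (h₁ : FinSupp.{t} (T.obj₁⟦(1 : ℤ)⟧)) : FinSupp.{t} T.obj₃ :=
  finSupp_obj₂ T.rotate (rot_of_distTriang _ hT) h₂ h₁

end Triangle

theorem finSupp_of_preserves {K : C}
    (h : ∀ J : Type t, PreservesColimitsOfShape (Discrete J) (preadditiveCoyoneda.obj (op K))) :
    FinSupp.{t} K := by
  classical
  intro J X c hc φ
  haveI := h J
  let G := preadditiveCoyoneda.obj (op K)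
  let hG := isColimitOfPreserves G hc
  let H : AddSubgroup (K ⟶ c.pt) :=
    { carrier := {g | ∃ s : Finset J, ∀ (Z : C) (q : c.pt ⟶ Z), (∀ i ∈ s, c.inj i ≫ q = 0) → g ≫ q = 0}
      zero_mem' := ⟨∅, fun _ _ _ => zero_comp⟩
      add_mem' := fun {a b} ⟨s, hs⟩ ⟨u, hu⟩ => ⟨s ∪ u, fun Z q hq => by
        rw [Preadditive.add_comp, hs Z q (fun i hi => hq i (Finset.mem_union_left _ hi)),
          hu Z q (fun i hi => hq i (Finset.mem_union_right _ hi)), add_zero]⟩
      neg_mem' := fun {a} ⟨s, hs⟩ => ⟨s, fun Z q hq => by rw [Preadditive.neg_comp, hs Z q hq, neg_zero]⟩ }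
  have hq : AddCommGrpCat.ofHom (QuotientAddGroup.mk' H) =
      (0 : G.obj c.pt ⟶ AddCommGrpCat.of ((K ⟶ c.pt) ⧸ H)) := hG.hom_ext fun ⟨i⟩ => by
    ext (g : K ⟶ X i)
    refine (QuotientAddGroup.eq_zero_iff (g ≫ c.inj i)).2 ⟨{i}, fun Z q hq => ?_⟩
    rw [Category.assoc, hq i (Finset.mem_singleton_self i), comp_zero]
  exact (QuotientAddGroup.eq_zero_iff φ).1 (ConcreteCategory.congr_hom hq φ)

theorem preserves_of_finSupp {K : C} (h : FinSupp.{t} K) (J : Type t) :
    PreservesColimitsOfShape (Discrete J) (preadditiveCoyoneda.obj (op K)) := by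
  classical
  let G := preadditiveCoyoneda.obj (op K)
  suffices H : ∀ f : J → C, PreservesColimit (Discrete.functor f) G from
    ⟨fun {F} => haveI := H (F.obj ∘ Discrete.mk); preservesColimit_of_iso_diagram G Discrete.natIsoFunctor.symm⟩
  intro f
  refine ⟨fun {c} hc => ⟨?_⟩⟩
  let π : ∀ i, c.pt ⟶ f i := fun i => Cofan.IsColimit.desc hc fun j => if e : j = i then eqToHom (by rw [e]) else 0
  have hπ : ∀ j i, Cofan.inj c j ≫ π i = if e : j = i then eqToHom (by rw [e]) else 0 := fun j i =>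
    Cofan.IsColimit.fac hc _ _
  have hπs : ∀ i, Cofan.inj c i ≫ π i = 𝟙 _ := fun i => by rw [hπ, dif_pos rfl, eqToHom_refl]
  have hπn : ∀ {j i}, j ≠ i → Cofan.inj c j ≫ π i = 0 := fun {j i} e => by rw [hπ, dif_neg e]
  choose S hS using fun φ : K ⟶ c.pt => h J f c hc φ
  have hout : ∀ φ i, i ∉ S φ → φ ≫ π i = 0 := fun φ i hi =>
    hS φ _ (π i) fun j hj => hπn fun e => hi (e ▸ hj)
  have hsum : ∀ φ, φ = ∑ i ∈ S φ, (φ ≫ π i) ≫ Cofan.inj c i := fun φ => by
    rw [← sub_eq_zero]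
    have e := hS φ _ (𝟙 c.pt - ∑ i ∈ S φ, π i ≫ Cofan.inj c i) fun j hj => by
      rw [Preadditive.comp_sub, Category.comp_id, Preadditive.comp_sum, Finset.sum_eq_single j
        (fun i _ hij => by rw [← Category.assoc, hπn (Ne.symm hij), zero_comp]) (fun hj' => absurd hj hj'),
        ← Category.assoc, hπs, Category.id_comp, sub_self]
    rw [Preadditive.comp_sub, Category.comp_id, Preadditive.comp_sum] at e
    simpa only [Category.assoc] using e
  let sf : ∀ (s : Cocone (Discrete.functor f ⋙ G)) (i : J), (K ⟶ f i) →+ s.pt := fun s i => (s.ι.app ⟨i⟩).hom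
  have hfin : ∀ (s : Cocone (Discrete.functor f ⋙ G)) (φ : K ⟶ c.pt),
      (Function.support fun i => sf s i (φ ≫ π i)).Finite := fun s φ =>
    (S φ).finite_toSet.subset fun i hi => by
      by_contra hi'
      exact hi (by simp only [hout φ i hi', map_zero])
  refine
    { desc := fun s => AddCommGrpCat.ofHom (AddMonoidHom.mk' (fun φ : K ⟶ c.pt => ∑ᶠ i, sf s i (φ ≫ π i))
        fun a b => ?_)
      fac := fun s ⟨i⟩ => ?_
      uniq := fun s m hm => ?_ }
  · refine Eq.trans (finsum_congr fun i => ?_) (finsum_add_distrib (hfin s a) (hfin s b))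
    rw [Preadditive.add_comp, map_add]
  · ext (g : K ⟶ f i)
    show ∑ᶠ j, sf s j ((g ≫ Cofan.inj c i) ≫ π j) = sf s i g
    rw [finsum_eq_single _ i fun j hj => by rw [Category.assoc, hπn (Ne.symm hj), comp_zero, map_zero],
      Category.assoc, hπs, Category.comp_id]
  · ext (φ : K ⟶ c.pt)
    show m.hom φ = ∑ᶠ i, sf s i (φ ≫ π i)
    rw [finsum_eq_sum_of_support_subset _ (s := S φ) fun i hi => by
      by_contra hi'
      exact hi (by simp only [hout φ i hi', map_zero])]
    conv_lhs => rw [hsum φ]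
    rw [map_sum]
    refine Finset.sum_congr rfl fun i _ => ?_
    exact congrArg (fun q : AddCommGrpCat.of (K ⟶ f i) ⟶ s.pt => q.hom (φ ≫ π i)) (hm ⟨i⟩)

end Groth.Agent.BeilCpt9
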