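import Groth.Agent.Lib.BeilCpt9.DMod
import Mathlib.Algebra.Category.ModuleCat.Algebra
import Mathlib.LinearAlgebra.Basis.VectorSpace
import Mathlib.Algebra.Homology.SingleHomology
import Mathlib.Algebra.Algebra.Bilinear
import Mathlib.LinearAlgebra.Dual.Lemmas
import Mathlib.RingTheory.Finiteness.Basic
import Mathlib.LinearAlgebra.FiniteDimensional.Basic

/-!
Over a finite dimensional algebra, objects with finite support have bounded, finite dimensional homology.
-/

set_option autoImplicit false
set_option linter.style.haveILetI false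
set_option linter.unusedSectionVars false
set_option backward.isDefEq.respectTransparency false
set_option backward.isDefEq.respectTransparency.types false

universe w u

open CategoryTheory CategoryTheory.Limits
open DerivedCategory (Q homologyFunctor)
open scoped ModuleCat.Algebra

namespace Groth.Agent.BeilCpt9

variable (k : Type u) [Field k] {R : Type u} [Ring R] [Algebra k R]

/-- The coinduced module `Hom_k(R, k)`, with `(r • f) s = f (s * r)`. -/
def CoInd (_k : Type u) (R : Type u) [Field _k] [Ring R] [Algebra _k R] : Type u := R →ₗ[_k] _k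

instance : AddCommGroup (CoInd k R) := inferInstanceAs (AddCommGroup (R →ₗ[k] k))

variable {k}

/-- The underlying functional. -/
def CoInd.fn (f : CoInd k R) : R →ₗ[k] k := f

theorem CoInd.ext {f g : CoInd k R} (h : ∀ s, f.fn s = g.fn s) : f = g := LinearMap.ext h

theorem CoInd.add_fn (f g : CoInd k R) (s : R) : (f + g).fn s = f.fn s + g.fn s := rfl

instance : SMul R (CoInd k R) := ⟨fun r f => f.fn.comp (LinearMap.mulRight k r)⟩

theorem CoInd.smul_fn (r : R) (f : CoInd k R) (s : R) : (r • f).fn s = f.fn (s * r) := rfl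

instance : Module R (CoInd k R) where
  one_smul f := CoInd.ext fun s => by rw [CoInd.smul_fn, mul_one]
  mul_smul a b f := CoInd.ext fun s => by rw [CoInd.smul_fn, CoInd.smul_fn, CoInd.smul_fn, mul_assoc]
  smul_zero r := CoInd.ext fun s => rfl
  smul_add r f g := CoInd.ext fun s => rfl
  add_smul a b f := CoInd.ext fun s => by rw [CoInd.smul_fn, mul_add, map_add]; rfl
  zero_smul f := CoInd.ext fun s => by rw [CoInd.smul_fn, mul_zero, map_zero]; rfl

/-- The map into the coinduced module attached to a functional. -/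
noncomputable def coLift {M : ModuleCat.{u} R} (g : M →ₗ[k] k) : M ⟶ ModuleCat.of R (CoInd k R) :=
  ModuleCat.ofHom
    { toFun := fun x => (g.comp ((LinearMap.toSpanSingleton R M x).restrictScalars k) : R →ₗ[k] k)
      map_add' := fun x y => CoInd.ext fun s => by
        show g (s • (x + y)) = g (s • x) + g (s • y)
        rw [smul_add, map_add]
      map_smul' := fun r x => CoInd.ext fun s => by
        show g (s • r • x) = g ((s * r) • x)
        rw [smul_smul] }

/-- Evaluation at one. -/
def ev (f : ModuleCat.of R (CoInd k R)) : k := CoInd.fn f 1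

theorem ev_coLift {M : ModuleCat.{u} R} (g : M →ₗ[k] k) (x : M) : ev ((coLift g).hom x) = g x := by
  show g ((1 : R) • x) = g x
  rw [one_smul]

/-- A functional on the degree `n` term extending the homology class of a cycle. -/
theorem exists_extend (L : CochainComplex (ModuleCat.{u} R) ℤ) (n : ℤ) :
    ∃ ρ : (L.X n) →ₗ[k] (L.homology n), (∀ z, ρ ((L.iCycles n).hom z) = (L.homologyπ n).hom z) ∧
      ∀ m y, ρ ((L.d m n).hom y) = 0 := by
  have hinj : Function.Injective ((L.iCycles n).hom.restrictScalars k) :=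
    (ModuleCat.mono_iff_injective (L.iCycles n)).1 inferInstance
  obtain ⟨σ, hσ⟩ := LinearMap.exists_leftInverse_of_injective _ (LinearMap.ker_eq_bot.2 hinj)
  have hσ' : ∀ z, σ ((L.iCycles n).hom z) = z := fun z => congrArg (fun q : _ →ₗ[k] _ => q z) hσ
  refine ⟨((L.homologyπ n).hom.restrictScalars k).comp σ, fun z => congrArg (L.homologyπ n).hom (hσ' z), fun m y => ?_⟩
  have e : (L.iCycles n).hom ((L.toCycles m n).hom y) = (L.d m n).hom y :=
    congrArg (fun q => q.hom y) (L.toCycles_i m n)
  show (L.homologyπ n).hom (σ ((L.d m n).hom y)) = 0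
  rw [← e, hσ']
  exact congrArg (fun q => q.hom y) (L.toCycles_comp_homologyπ m n)

/-- The map to a module in degree `n` attached to a functional killing boundaries. -/
noncomputable def toCo (L : CochainComplex (ModuleCat.{u} R) ℤ) (n : ℤ) (g : (L.X n) →ₗ[k] k)
    (hg : ∀ m y, g ((L.d m n).hom y) = 0) :
    L ⟶ (HomologicalComplex.single (ModuleCat.{u} R) (ComplexShape.up ℤ) n).obj (ModuleCat.of R (CoInd k R)) :=
  HomologicalComplex.mkHomToSingle (coLift g) fun m _ => ModuleCat.hom_ext (LinearMap.ext fun y =>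
    CoInd.ext fun s => by
      show g (s • (L.d m n).hom y) = 0
      rw [← map_smul, hg])

variable [HasDerivedCategory.{w} (ModuleCat.{u} R)]

/-- A zero map in the derived category vanishes on cycles. -/
theorem iCycles_comp_eq_zero {L : CochainComplex (ModuleCat.{u} R) ℤ} {N : ModuleCat.{u} R} (n : ℤ)
    (ψ : L ⟶ (HomologicalComplex.single (ModuleCat.{u} R) (ComplexShape.up ℤ) n).obj N) (h : Q.map ψ = 0) :
    L.iCycles n ≫ ψ.f n = 0 := by
  let Sn := (HomologicalComplex.single (ModuleCat.{u} R) (ComplexShape.up ℤ) n).obj N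
  have h1 : HomologicalComplex.homologyMap ψ n = 0 := by
    have := (DerivedCategory.homologyFunctorFactors (ModuleCat.{u} R) n).hom.naturality ψ
    dsimp at this
    rw [h, Functor.map_zero, zero_comp] at this
    exact (cancel_epi ((DerivedCategory.homologyFunctorFactors (ModuleCat.{u} R) n).hom.app L)).1
      (this.symm.trans comp_zero.symm)
  have h2 : HomologicalComplex.cyclesMap ψ n ≫ Sn.homologyπ n = 0 := by
    rw [← HomologicalComplex.homologyπ_naturality, h1, comp_zero]
  haveI : IsIso (Sn.homologyπ n) :=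
    Sn.isIso_homologyπ (n - 1) n (by simp) (HomologicalComplex.single_obj_d _ _ _ _ _)
  rw [← HomologicalComplex.cyclesMap_i, (cancel_mono (Sn.homologyπ n)).1 (h2.trans zero_comp.symm), zero_comp]

theorem toCo_eq_zero {L : CochainComplex (ModuleCat.{u} R) ℤ} (n : ℤ) (g : (L.X n) →ₗ[k] k)
    (hg : ∀ m y, g ((L.d m n).hom y) = 0) (h : Q.map (toCo L n g hg) = 0) (z : L.cycles n) :
    g ((L.iCycles n).hom z) = 0 := by
  have h1 := iCycles_comp_eq_zero n _ h
  rw [toCo, HomologicalComplex.mkHomToSingle_f, ← Category.assoc] at h1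
  haveI := cancel_mono (HomologicalComplex.singleObjXSelf (ComplexShape.up ℤ) n (ModuleCat.of R (CoInd k R))).inv
    (g := L.iCycles n ≫ coLift g) (h := (0 : L.cycles n ⟶ ModuleCat.of R (CoInd k R)))
  have h2 : L.iCycles n ≫ coLift g = 0 := this.1 (h1.trans zero_comp.symm)
  have h3 := congrArg (fun q => ev (q.hom z)) h2
  refine (ev_coLift g _).symm.trans (h3.trans ?_)
  exact LinearMap.zero_apply (1 : R)

theorem finite_nontrivial_homology (L : CochainComplex (ModuleCat.{u} R) ℤ)
    (hL : FinSupp.{u} (Q.obj L)) (k' : Type u) [Field k'] [Algebra k' R] :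
    Set.Finite {i : ℤ | Nontrivial (L.homology i)} := by
  classical
  have hg : ∀ n : ℤ, ∃ (g : (L.X n) →ₗ[k'] k') (_ : ∀ m y, g ((L.d m n).hom y) = 0),
      (∀ z, g ((L.iCycles n).hom z) = 0) → ¬ Nontrivial (L.homology n) := by
    intro n
    by_cases h : Nontrivial (L.homology n)
    · obtain ⟨ρ, h1, h2⟩ := exists_extend (k := k') L n
      obtain ⟨a, ha⟩ := exists_ne (0 : L.homology n)
      obtain ⟨l, hl⟩ : ∃ l : (L.homology n) →ₗ[k'] k', l a ≠ 0 := by
        by_contra hh
        push Not at hh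
        exact ha ((Module.forall_dual_apply_eq_zero_iff k' a).1 hh)
      refine ⟨l.comp ρ, fun m y => by simp [h2], fun hz => absurd ?_ hl⟩
      obtain ⟨z, rfl⟩ := (ModuleCat.epi_iff_surjective (L.homologyπ n)).1 inferInstance a
      rw [← h1]
      exact hz z
    · exact ⟨0, fun _ _ => rfl, fun _ => h⟩
  choose g hg0 hg using hg
  let N : ULift.{u} ℤ → CochainComplex (ModuleCat.{u} R) ℤ := fun i =>
    (HomologicalComplex.single (ModuleCat.{u} R) (ComplexShape.up ℤ) i.down).obj (ModuleCat.of R (CoInd k' R))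
  let ψ : ∀ i : ULift.{u} ℤ, L ⟶ N i := fun i => toCo L i.down (g i.down) (hg0 i.down)
  let Φ : L ⟶ ∐ N :=
    { f := fun i => (ψ ⟨i⟩).f i ≫ (Sigma.ι N ⟨i⟩).f i
      comm' := fun i j _ => by
        rw [Category.assoc, (Sigma.ι N ⟨i⟩).comm, ← Category.assoc (L.d i j), ← (ψ ⟨j⟩).comm]
        simp [N, HomologicalComplex.single_obj_d] }
  have hΦ : ∀ n : ULift.{u} ℤ, Φ ≫ Sigma.π N n = ψ n := fun n => by
    refine HomologicalComplex.hom_ext _ _ fun i => ?_
    show ((ψ ⟨i⟩).f i ≫ (Sigma.ι N ⟨i⟩).f i) ≫ (Sigma.π N n).f i = _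
    rw [Category.assoc, ← HomologicalComplex.comp_f]
    by_cases h : n = ⟨i⟩
    · subst h
      rw [Sigma.ι_π_eq_id]
      simp
    · rw [Sigma.ι_π_of_ne N (Ne.symm h), HomologicalComplex.zero_f, comp_zero]
      exact (HomologicalComplex.isZero_single_obj_X (ComplexShape.up ℤ) n.down _ i
        (fun e => h (ULift.ext _ _ e.symm))).eq_of_tgt _ _
  obtain ⟨hc⟩ := AcyclicSum8.isColimit_Q (Cofan.mk (∐ N) (Sigma.ι N)) (coproductIsCoproduct N)
  obtain ⟨s, hs⟩ := hL _ _ _ hc (Q.map Φ)
  refine (s.image ULift.down).finite_toSet.subset fun n hn => ?_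
  by_contra hns
  refine hg n (toCo_eq_zero n (g n) (hg0 n) ?_) hn
  show Q.map (ψ ⟨n⟩) = 0
  rw [← hΦ ⟨n⟩, Q.map_comp]
  refine hs _ _ fun i hi => ?_
  show Q.map (Sigma.ι N i) ≫ Q.map (Sigma.π N ⟨n⟩) = 0
  rw [← Q.map_comp, Sigma.ι_π_of_ne N (fun e => hns (Finset.mem_image.2 ⟨i, hi, congrArg ULift.down e⟩)),
    Functor.map_zero]

theorem finite_homology [Module.Finite k R] (L : CochainComplex (ModuleCat.{u} R) ℤ)
    (hL : FinSupp.{u} (Q.obj L)) (n : ℤ) : Module.Finite k (L.homology n) := by
  classical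
  by_contra hfin
  obtain ⟨ρ, h1, h2⟩ := exists_extend (k := k) L n
  let b := Module.Basis.ofVectorSpace k (L.homology n)
  haveI : Infinite (Module.Basis.ofVectorSpaceIndex k (L.homology n)) := by
    by_contra h
    rw [not_infinite_iff_finite] at h
    exact hfin (Module.Finite.of_basis b)
  let e := Infinite.natEmbedding (Module.Basis.ofVectorSpaceIndex k (L.homology n))
  let g : ℕ → ((L.X n) →ₗ[k] k) := fun j => (b.coord (e j)).comp ρ
  have hg : ∀ j m y, g j ((L.d m n).hom y) = 0 := fun j m y => by simp [g, h2]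
  obtain ⟨T, hT⟩ := (Module.Finite.fg_top : (⊤ : Submodule k R).FG)
  have hsupp : ∀ x : L.X n, ∃ s : Finset ℕ, ∀ j ∉ s, coLift (g j) x = 0 := fun x => by
    refine ⟨T.biUnion fun r => (b.repr (ρ (r • x))).support.preimage e e.injective.injOn, fun j hj => ?_⟩
    refine LinearMap.ext_on hT fun r hr => ?_
    show b.coord (e j) (ρ (r • x)) = 0
    rw [Module.Basis.coord_apply]
    exact Finsupp.notMem_support_iff.1 fun h =>
      hj (Finset.mem_biUnion.2 ⟨r, hr, Finset.mem_preimage.2 h⟩)
  choose S hS using hsupp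
  let CR := ModuleCat.of R (CoInd k R)
  let F := ModuleCat.of R (ULift.{u} ℕ →₀ CoInd k R)
  let G : L.X n ⟶ F := ModuleCat.ofHom
    { toFun := fun x => Finsupp.onFinset ((S x).map Equiv.ulift.{u}.symm.toEmbedding)
        (fun j => (coLift (g j.down)).hom x) fun j hj => by
          by_contra h
          exact hj (hS x j.down fun h' => h (Finset.mem_map.2 ⟨j.down, h', rfl⟩))
      map_add' := fun x y => Finsupp.ext fun j => by simp
      map_smul' := fun r x => Finsupp.ext fun j => by simp }
  let P : ULift.{u} ℕ → (F ⟶ CR) := fun j => ModuleCat.ofHom (Finsupp.lapply j)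
  have hG : ∀ j, G ≫ P j = coLift (g j.down) := fun j => ModuleCat.hom_ext (LinearMap.ext fun x => rfl)
  let c : Cofan fun _ : ULift.{u} ℕ => CR := Cofan.mk F fun j => ModuleCat.ofHom (Finsupp.lsingle j)
  let hc : IsColimit c := mkCofanColimit c (fun s => ModuleCat.ofHom (Finsupp.lsum ℕ fun j => (s.inj j).hom))
    (fun s j => ModuleCat.hom_ext (LinearMap.ext fun x => Finsupp.sum_single_index (map_zero _)))
    fun s m hm => ModuleCat.hom_ext (Finsupp.lhom_ext fun j x => by
      have := congrArg (fun q => q.hom x) (hm j)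
      show _ = (Finsupp.single j x).sum fun i a => (s.inj i).hom a
      exact this.trans (Finsupp.sum_single_index (h := fun i a => (s.inj i).hom a) (map_zero (s.inj j).hom)).symm)
  let Sf := HomologicalComplex.single (ModuleCat.{u} R) (ComplexShape.up ℤ) n
  have hG0 : ∀ m, (ComplexShape.up ℤ).Rel m n → L.d m n ≫ G = 0 := fun m hm =>
    ModuleCat.hom_ext (LinearMap.ext fun y => Finsupp.ext fun j => by
      have h := (HomologicalComplex.mkHomToSingle (coLift (g j.down)) fun m' _ => ModuleCat.hom_ext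
        (LinearMap.ext fun y' => LinearMap.ext fun s => by
          show g j.down (s • (L.d m' n).hom y') = 0
          rw [← map_smul, hg]) : L ⟶ _).comm m n
      refine LinearMap.ext fun s => ?_
      show g j.down (s • (L.d m n).hom y) = 0
      rw [← map_smul, hg])
  let Φ : L ⟶ Sf.obj F := HomologicalComplex.mkHomToSingle G hG0
  obtain ⟨hcQ⟩ := AcyclicSum8.isColimit_Q (Cofan.mk (Sf.obj F) fun j => Sf.map (c.inj j))
    (isColimitCofanMkObjOfIsColimit Sf _ _ hc)
  obtain ⟨s, hs⟩ := hL _ _ _ hcQ (Q.map Φ)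
  obtain ⟨j, hj⟩ := Infinite.exists_notMem_finset (s.image ULift.down)
  have h0 : Q.map (toCo L n (g j) (hg j)) = 0 := by
    have e1 : toCo L n (g j) (hg j) = Φ ≫ Sf.map (P ⟨j⟩) := by
      apply HomologicalComplex.to_single_hom_ext
      rw [HomologicalComplex.comp_f, HomologicalComplex.single_map_f_self, toCo, HomologicalComplex.mkHomToSingle_f,
        HomologicalComplex.mkHomToSingle_f, Category.assoc, Iso.inv_hom_id_assoc, ← Category.assoc, hG]
    rw [e1, Q.map_comp]
    refine hs _ _ fun i hi => ?_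
    show Q.map (Sf.map (c.inj i)) ≫ Q.map (Sf.map (P ⟨j⟩)) = 0
    rw [← Q.map_comp, ← Functor.map_comp]
    have : c.inj i ≫ P ⟨j⟩ = 0 := ModuleCat.hom_ext (LinearMap.ext fun x =>
      Finsupp.single_eq_of_ne fun e => hj (Finset.mem_image.2 ⟨i, hi, congrArg ULift.down e.symm⟩))
    rw [this, Functor.map_zero, Functor.map_zero]
  obtain ⟨z, hz⟩ := (ModuleCat.epi_iff_surjective (L.homologyπ n)).1 inferInstance (b (e j))
  have := toCo_eq_zero n (g j) (hg j) h0 z
  simp [g, h1, hz] at this

end Groth.Agent.BeilCpt9
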